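import Mathlib
import Cfsg.Agent.S1853
import Cfsg.Agent.TwoGroups.IsolatedZStar

/-!
# Fusion of involutions in simple groups: transfer, centre of the Sylow subgroup
-/

set_option autoImplicit false

namespace CfsgLib.G2SylowFusion

open Subgroup MulAction

variable {G : Type*} [Group G] [Finite G]

theorem not_commutative [IsSimpleGroup G] (S : Sylow 2 G) (h4 : 4 ≤ Nat.card (S : Subgroup G)) :
    ¬ IsMulCommutative G := by
  intro hc
  letI : CommGroup G := { ‹Group G› with mul_comm := hc.1.1 }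
  have hp : (Nat.card G).Prime := IsSimpleGroup.prime_card
  have hd : Nat.card (S : Subgroup G) ∣ Nat.card G := Subgroup.card_subgroup_dvd_card _
  obtain ⟨k, hk⟩ := S.isPGroup'.exists_card_eq (p := 2)
  rcases hp.eq_one_or_self_of_dvd _ hd with h | h
  · omega
  · rw [h] at hk h4
    rw [hk] at hp
    have := hp.eq_one_of_pow
    subst this
    omega

/-- **Transfer**: an involution outside a subgroup of index two of `S` has a conjugate inside it,
by an element carrying its centralizer in `S` into `S`. -/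
theorem exists_conj_mem [IsSimpleGroup G] (hG : ¬ IsMulCommutative G) (S : Sylow 2 G) (T : Subgroup G)
    (hTS : T ≤ S) (hidx : T.relIndex (S : Subgroup G) = 2) (y : G) (hy : orderOf y = 2) (hyS : y ∈ (S : Subgroup G))
    (hyT : y ∉ T) :
    ∃ g : G, g * y * g⁻¹ ∈ T ∧ ∀ a ∈ (S : Subgroup G), a * y = y * a → g * a * g⁻¹ ∈ (S : Subgroup G) := by
  have : Fact (Nat.Prime 2) := ⟨Nat.prime_two⟩
  set H : Subgroup G := (S : Subgroup G) with hH
  have hidx' : (T.subgroupOf H).index = 2 := hidx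
  haveI hTn : (T.subgroupOf H).Normal := Subgroup.normal_of_index_eq_two hidx'
  have hcyc : IsCyclic (↥H ⧸ T.subgroupOf H) := isCyclic_of_prime_card (p := 2) hidx'
  have hconjT : ∀ s ∈ H, ∀ t ∈ T, s * t * s⁻¹ ∈ T := by
    intro s hs t ht
    exact hTn.conj_mem ⟨t, hTS ht⟩ (Subgroup.mem_subgroupOf.mpr ht) ⟨s, hs⟩
  have hindep : ∀ (g : G), (g : G ⧸ H).out⁻¹ * y * (g : G ⧸ H).out ∈ T ↔ g⁻¹ * y * g ∈ T := by
    intro g
    obtain ⟨h, hh⟩ := QuotientGroup.mk_out_eq_mul H g
    rw [hh]
    constructor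
    · intro ht
      have := hconjT _ h.2 _ ht
      convert this using 1; group
    · intro ht
      have := hconjT _ (H.inv_mem h.2) _ ht
      convert this using 1; group
  set C : Subgroup G := H ⊓ Subgroup.centralizer {y} with hC
  have hP : IsPGroup 2 C := S.isPGroup'.to_le inf_le_left
  let E : SubMulAction ↥C (G ⧸ H) :=
    { carrier := {q | q.out⁻¹ * y * q.out ∈ T}
      smul_mem' := by
        intro r q hq
        have hrC : (r : G) * y = y * (r : G) := Subgroup.mem_centralizer_singleton_iff.mp r.2.2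
        change ((r : G) • q).out⁻¹ * y * ((r : G) • q).out ∈ T
        have hsm : (r : G) • q = (((r : G) * q.out : G) : G ⧸ H) := by
          conv_lhs => rw [← QuotientGroup.out_eq' q]
          rw [MulAction.Quotient.smul_mk, smul_eq_mul]
        rw [hsm, hindep, show ((r : G) * q.out)⁻¹ * y * ((r : G) * q.out) =
          q.out⁻¹ * ((r : G)⁻¹ * (y * (r : G))) * q.out by group, ← hrC, inv_mul_cancel_left]
        exact hq }
  obtain ⟨⟨q, hqT⟩, hq⟩ := hP.nonempty_fixed_point_of_prime_not_dvd_card E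
    (Cfsg.Agent.S1853.odd_good hG S T hTS hcyc y hy hyS hyT)
  refine ⟨q.out⁻¹, by rw [inv_inv]; exact hqT, fun a ha hay => ?_⟩
  have : (a • q : G ⧸ H) = q :=
    congrArg Subtype.val (hq ⟨a, ha, Subgroup.mem_centralizer_singleton_iff.mpr hay⟩)
  rw [← QuotientGroup.out_eq' q, MulAction.Quotient.smul_mk, smul_eq_mul, QuotientGroup.eq] at this
  have := H.inv_mem this
  convert this using 1; group

/-- A conjugate of a central element of `S` lying in `S`: its centralizer in `S` is fused into `S`. -/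
theorem exists_conj_central (S : Sylow 2 G) (t x : G) (htS : ∀ s ∈ (S : Subgroup G), s * t = t * s) (h : IsConj x t) :
    ∃ g : G, g * x * g⁻¹ = t ∧ ∀ a ∈ (S : Subgroup G), a * x = x * a → g * a * g⁻¹ ∈ (S : Subgroup G) := by
  have : Fact (Nat.Prime 2) := ⟨Nat.prime_two⟩
  obtain ⟨g₀, hg₀⟩ := isConj_iff.mp h
  set C : Subgroup G := Subgroup.centralizer {t} with hC
  have hSC : (S : Subgroup G) ≤ C := fun s hs => Subgroup.mem_centralizer_singleton_iff.mpr (htS s hs)
  set Q : Subgroup G :=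
    ((S : Subgroup G) ⊓ Subgroup.centralizer {x}).map (MulAut.conj g₀).toMonoidHom with hQ
  have hQC : Q ≤ C := by
    rintro _ ⟨a, ha, rfl⟩
    rw [hC, Subgroup.mem_centralizer_singleton_iff]
    have hax : a * x = x * a := Subgroup.mem_centralizer_singleton_iff.mp ha.2
    simp only [MulEquiv.coe_toMonoidHom, MulAut.conj_apply]
    calc g₀ * a * g₀⁻¹ * t = g₀ * (a * x) * g₀⁻¹ := by rw [← hg₀]; group
      _ = g₀ * (x * a) * g₀⁻¹ := by rw [hax]
      _ = t * (g₀ * a * g₀⁻¹) := by rw [← hg₀]; group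
  have hQp : IsPGroup 2 (Q.subgroupOf C) :=
    ((S.isPGroup'.to_le inf_le_left).map _).comap_of_injective C.subtype C.subtype_injective
  obtain ⟨R, hR⟩ := hQp.exists_le_sylow
  obtain ⟨c, hc⟩ := MulAction.exists_smul_eq ↥C R (S.subtype hSC)
  refine ⟨(c : G) * g₀, ?_, fun a ha hax => ?_⟩
  · have hct : (c : G) * t = t * (c : G) := Subgroup.mem_centralizer_singleton_iff.mp c.2
    calc (c : G) * g₀ * x * ((c : G) * g₀)⁻¹ = (c : G) * (g₀ * x * g₀⁻¹) * (c : G)⁻¹ := by group
      _ = (c : G) * t * (c : G)⁻¹ := by rw [hg₀]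
      _ = t := by rw [hct]; group
  · have hq : g₀ * a * g₀⁻¹ ∈ Q :=
      ⟨a, ⟨ha, Subgroup.mem_centralizer_singleton_iff.mpr hax⟩, rfl⟩
    have h1 : (⟨g₀ * a * g₀⁻¹, hQC hq⟩ : C) ∈ (R : Subgroup C) := hR (Subgroup.mem_subgroupOf.mpr hq)
    have h2 := Subgroup.smul_mem_pointwise_smul _ (MulAut.conj c) _ h1
    rw [← Sylow.pointwise_smul_def] at h2
    have h3 : MulAut.conj c • (⟨g₀ * a * g₀⁻¹, hQC hq⟩ : C) ∈ ((c • R : Sylow 2 C) : Subgroup C) := h2
    rw [hc, Sylow.coe_subtype, Subgroup.mem_subgroupOf] at h3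
    simpa [mul_assoc, MulAut.smul_def, MulAut.conj_apply] using h3

/-- The theorem of Glauberman: a central involution of `S` is not isolated in a simple group. -/
theorem exists_fused [IsSimpleGroup G] (hG : ¬ IsMulCommutative G) (S : Sylow 2 G) (t : G)
    (ht : orderOf t = 2) (htS : ∀ s ∈ (S : Subgroup G), s * t = t * s) :
    ∃ x ∈ (S : Subgroup G), x ≠ t ∧ IsConj x t := by
  have : Fact (Nat.Prime 2) := ⟨Nat.prime_two⟩
  have hiso : ¬ Cfsg.IsIsolatedInvolution t := by
    intro hiso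
    have hO : Cfsg.oddCore G = ⊥ := by
      refine ((inferInstance : (Cfsg.oddCore G).Normal).eq_bot_or_eq_top).resolve_right fun htop => ?_
      have hodd := CfsgLib.TwoGroups.odd_card_oddCore (G := G)
      rw [htop, Subgroup.card_top] at hodd
      exact (Nat.not_even_iff_odd.mpr hodd) (even_iff_two_dvd.mpr (ht ▸ orderOf_dvd_natCard t))
    have hcen : t ∈ Subgroup.center G := by
      rw [Subgroup.mem_center_iff]
      intro g
      have h := CfsgLib.TwoGroups.comm_mem_oddCore hiso g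
      rw [hO, Subgroup.mem_bot] at h
      rw [mul_inv_eq_one, mul_inv_eq_iff_eq_mul] at h
      exact h.symm
    rcases (inferInstance : (Subgroup.center G).Normal).eq_bot_or_eq_top with h | h
    · rw [h, Subgroup.mem_bot] at hcen
      rw [hcen, orderOf_one] at ht
      omega
    · exact hG ⟨⟨fun a b => Subgroup.mem_center_iff.mp (h ▸ Subgroup.mem_top b) a⟩⟩
  simp only [Cfsg.IsIsolatedInvolution, ht, true_and, not_forall] at hiso
  obtain ⟨g, hcomm, hne⟩ := hiso
  set C : Subgroup G := Subgroup.centralizer {t} with hC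
  have hSC : (S : Subgroup G) ≤ C := fun s hs => Subgroup.mem_centralizer_singleton_iff.mpr (htS s hs)
  let z : C := ⟨g * t * g⁻¹, Subgroup.mem_centralizer_singleton_iff.mpr hcomm.eq.symm⟩
  have hz : IsPGroup 2 (Subgroup.zpowers z) := by
    refine IsPGroup.of_card (n := 1) ?_
    rw [Nat.card_zpowers, ← Subgroup.orderOf_coe, pow_one]
    show orderOf (g * t * g⁻¹) = 2
    rw [← MulAut.conj_apply, MulEquiv.orderOf_eq, ht]
  obtain ⟨R, hR⟩ := hz.exists_le_sylow
  obtain ⟨c, hc⟩ := MulAction.exists_smul_eq ↥C R (S.subtype hSC)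
  have h2 := Subgroup.smul_mem_pointwise_smul _ (MulAut.conj c) _ (hR (Subgroup.mem_zpowers z))
  have h3 : MulAut.conj c • z ∈ ((c • R : Sylow 2 C) : Subgroup C) := h2
  rw [hc, Sylow.coe_subtype, Subgroup.mem_subgroupOf] at h3
  have hct : (c : G) * t * (c : G)⁻¹ = t := by
    rw [(Subgroup.mem_centralizer_singleton_iff.mp c.2 : (c : G) * t = t * (c : G))]; group
  refine ⟨_, h3, ?_, ?_⟩
  · intro he
    apply hne
    have he' : (c : G) * (g * t * g⁻¹) * (c : G)⁻¹ = (c : G) * t * (c : G)⁻¹ := by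
      rw [hct]; simpa [MulAut.smul_def, MulAut.conj_apply, z, mul_assoc] using he
    exact mul_left_cancel (mul_right_cancel he')
  · refine (isConj_iff.mpr ⟨(c : G) * g, ?_⟩).symm
    simp [MulAut.smul_def, MulAut.conj_apply, z, mul_assoc]

end CfsgLib.G2SylowFusion
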