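import Mathlib

/-!
# The abstract Sylow `2`-subgroup of `G₂(q)`, `q` odd

`(C_n × C_n) ⋊ (C₂ × C₂)`: one generator inverts, the other one swaps the coordinates.
-/

set_option autoImplicit false

namespace CfsgLib.G2SylowFusion

/-- `(x, y)` in the torus, `e` the inverting part, `d` the swapping part. -/
@[ext]
structure GT (n : ℕ) where
  /-- first coordinate -/
  x : ZMod n
  /-- second coordinate -/
  y : ZMod n
  /-- inversion part -/
  e : Bool
  /-- swap part -/
  d : Bool

namespace GT

variable {n : ℕ}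

/-- The sign attached to the inversion part. -/
def sgn (e : Bool) (a : ZMod n) : ZMod n := if e then -a else a

instance : Mul (GT n) where
  mul g g' :=
    ⟨g.x + sgn g.e (if g.d then g'.y else g'.x), g.y + sgn g.e (if g.d then g'.x else g'.y),
      xor g.e g'.e, xor g.d g'.d⟩

instance : One (GT n) := ⟨⟨0, 0, false, false⟩⟩

instance : Inv (GT n) where
  inv g := ⟨sgn (!g.e) (if g.d then g.y else g.x), sgn (!g.e) (if g.d then g.x else g.y), g.e, g.d⟩

theorem mul_def (g g' : GT n) : g * g' =
    ⟨g.x + sgn g.e (if g.d then g'.y else g'.x), g.y + sgn g.e (if g.d then g'.x else g'.y),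
      xor g.e g'.e, xor g.d g'.d⟩ := rfl

theorem one_def : (1 : GT n) = ⟨0, 0, false, false⟩ := rfl

theorem inv_def (g : GT n) : g⁻¹ =
    ⟨sgn (!g.e) (if g.d then g.y else g.x), sgn (!g.e) (if g.d then g.x else g.y), g.e, g.d⟩ := rfl

instance : Group (GT n) :=
  Group.ofLeftAxioms
    (by
      rintro ⟨x, y, e, d⟩ ⟨x', y', e', d'⟩ ⟨x'', y'', e'', d''⟩
      cases e <;> cases d <;> cases e' <;> cases d' <;> ext <;> simp [mul_def, sgn] <;> ring)
    (by rintro ⟨x, y, e, d⟩; ext <;> simp [mul_def, one_def, sgn])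
    (by
      rintro ⟨x, y, e, d⟩
      cases e <;> cases d <;> ext <;> simp [mul_def, one_def, inv_def, sgn])

/-- As a set the product of the four parts. -/
def equivProd : GT n ≃ ZMod n × ZMod n × Bool × Bool where
  toFun g := (g.x, g.y, g.e, g.d)
  invFun p := ⟨p.1, p.2.1, p.2.2.1, p.2.2.2⟩
  left_inv _ := rfl
  right_inv _ := rfl

instance [NeZero n] : Finite (GT n) := Finite.of_equiv _ equivProd.symm

theorem card_eq : Nat.card (GT n) = 4 * n ^ 2 := by
  rw [Nat.card_congr equivProd]
  simp [Nat.card_prod]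
  ring

/-- The torus as a subgroup's worth of elements. -/
def tor (a c : ZMod n) : GT n := ⟨a, c, false, false⟩

/-- The inverting involution. -/
def iElt : GT n := ⟨0, 0, true, false⟩

/-- The swapping involution. -/
def rElt : GT n := ⟨0, 0, false, true⟩

theorem sq_parts (g : GT n) : (g * g).e = false ∧ (g * g).d = false := by
  simp [mul_def]

theorem comm_parts (g k : GT n) :
    (g * k * g⁻¹ * k⁻¹).e = false ∧ (g * k * g⁻¹ * k⁻¹).d = false := by
  simp [mul_def, inv_def]
  constructor <;> cases g.e <;> cases g.d <;> cases k.e <;> cases k.d <;> rfl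

theorem e_mul (g g' : GT n) : (g * g').e = xor g.e g'.e := rfl

theorem d_mul (g g' : GT n) : (g * g').d = xor g.d g'.d := rfl

/-- The kernel of the inversion part. -/
def kerE : Subgroup (GT n) where
  carrier := {g | g.e = false}
  mul_mem' {g k} hg hk := by simp_all [e_mul]
  one_mem' := rfl
  inv_mem' {g} hg := hg

/-- The kernel of the swap part. -/
def kerD : Subgroup (GT n) where
  carrier := {g | g.d = false}
  mul_mem' {g k} hg hk := by simp_all [d_mul]
  one_mem' := rfl
  inv_mem' {g} hg := hg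

theorem mem_kerE {g : GT n} : g ∈ kerE ↔ g.e = false := Iff.rfl

theorem mem_kerD {g : GT n} : g ∈ kerD ↔ g.d = false := Iff.rfl

theorem index_kerE : (kerE : Subgroup (GT n)).index = 2 := by
  rw [Subgroup.index_eq_two_iff]
  exact ⟨iElt, fun g => by rcases g with ⟨x, y, e, d⟩; cases e <;> simp [mem_kerE, e_mul, iElt, Xor']⟩

theorem index_kerD : (kerD : Subgroup (GT n)).index = 2 := by
  rw [Subgroup.index_eq_two_iff]
  exact ⟨rElt, fun g => by rcases g with ⟨x, y, e, d⟩; cases d <;> simp [mem_kerD, d_mul, rElt, Xor']⟩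

/-- Elements commuting with an inverting element and fixing the two coordinates have exponent two. -/
theorem sq_of_commute {g x : GT n} (hxe : x.e = true) (hxd : x.d = false) (hgd : g.d = false)
    (hc : g * x = x * g) : g * g = 1 := by
  rcases g with ⟨gx, gy, ge, gd⟩
  rcases x with ⟨xx, xy, xe, xd⟩
  subst hxe hxd hgd
  rw [mul_def, mul_def] at hc
  cases ge
  · simp [sgn] at hc
    rw [mul_def, one_def]
    ext <;> simp [sgn]
    · linear_combination hc.1
    · linear_combination hc.2
  · ext <;> simp [mul_def, one_def, sgn]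

theorem pow_four_of_commute {g x : GT n} (hxe : x.e = true) (hxd : x.d = false)
    (hc : g * x = x * g) : g ^ 4 = 1 := by
  have h : (g * g) * x = x * (g * g) := (Commute.mul_left hc hc : Commute (g * g) x)
  have := sq_of_commute hxe hxd (sq_parts g).2 h
  rw [show (4 : ℕ) = 2 + 2 from rfl, pow_add, pow_two]
  exact this

end GT

/-! ## Arithmetic modulo a power of two -/

theorem exists_half {n : ℕ} [NeZero n] (v : ZMod n) : ∃ c : ZMod n, v = c + c ∨ v = c + c + 1 := by
  obtain ⟨m, rfl⟩ : ∃ m : ℕ, (m : ZMod n) = v := ⟨v.val, ZMod.natCast_zmod_val v⟩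
  refine ⟨((m / 2 : ℕ) : ZMod n), ?_⟩
  rcases Nat.mod_two_eq_zero_or_one m with h | h
  · exact Or.inl (by rw [← Nat.cast_add]; congr 1; omega)
  · exact Or.inr (by rw [← Nat.cast_add, ← Nat.cast_one, ← Nat.cast_add]; congr 1; omega)

theorem not_half_one {n : ℕ} (h2 : 2 ∣ n) (c : ZMod n) : c + c ≠ 1 := by
  intro h
  have := congrArg (ZMod.castHom h2 (ZMod 2)) h
  rw [map_add, map_one] at this
  revert this
  generalize ZMod.castHom h2 (ZMod 2) c = z
  revert z
  decide

theorem double_eq_zero {h : ℕ} [NeZero (2 * h)] (v : ZMod (2 * h)) (hv : v + v = 0) :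
    v = 0 ∨ v = (h : ZMod (2 * h)) := by
  obtain ⟨m, hm, rfl⟩ : ∃ m : ℕ, m < 2 * h ∧ (m : ZMod (2 * h)) = v :=
    ⟨v.val, v.val_lt, ZMod.natCast_zmod_val v⟩
  rw [← Nat.cast_add, ZMod.natCast_eq_zero_iff] at hv
  rcases Nat.lt_trichotomy m h with h1 | h1 | h1
  · left
    obtain ⟨c, hc⟩ := hv
    rcases c with _ | c
    · simp [show m = 0 by omega]
    · nlinarith
  · exact Or.inr (by rw [h1])
  · obtain ⟨c, hc⟩ := hv
    rcases c with _ | _ | c <;> nlinarith

theorem natCast_half_ne {h : ℕ} (hh : 0 < h) : (h : ZMod (2 * h)) ≠ 0 := by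
  rw [Ne, ZMod.natCast_eq_zero_iff]
  exact fun hd => by have := Nat.le_of_dvd hh hd; omega

theorem natCast_half_add {h : ℕ} : (h : ZMod (2 * h)) + (h : ZMod (2 * h)) = 0 := by
  rw [← Nat.cast_add, ← two_mul, ZMod.natCast_self]

end CfsgLib.G2SylowFusion
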