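import Mathlib
import Cfsg.Agent.G2SylowFusion.Model
import Cfsg.Agent.G2SylowFusion.Fusion

/-!
# Involution classes of a simple group with Sylow `2`-subgroup of type `G₂(q)`
-/

set_option autoImplicit false
set_option linter.style.haveILetI false

namespace CfsgLib.G2SylowFusion

open GT

variable {k : ℕ}

/-- The central involution. -/
def tElt (k : ℕ) : GT (2 * (2 * k)) := tor ((2 * k : ℕ) : ZMod (2 * (2 * k))) ((2 * k : ℕ) : ZMod (2 * (2 * k)))

theorem tElt_comm (w : GT (2 * (2 * k))) : w * tElt k = tElt k * w := by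
  have h := natCast_half_add (h := 2 * k)
  have hn : -((2 * k : ℕ) : ZMod (2 * (2 * k))) = (2 * k : ℕ) := neg_eq_of_add_eq_zero_left h
  rcases w with ⟨x, y, e, d⟩
  cases e <;> cases d <;> ext <;> simp [-Nat.cast_mul, mul_def, tElt, tor, sgn, hn, add_comm]

/-- A member of the first mixed class of torus involutions. -/
def uElt (k : ℕ) : GT (2 * (2 * k)) := tor ((2 * k : ℕ) : ZMod (2 * (2 * k))) 0

theorem torus_invol [NeZero (2 * (2 * k))] {w : GT (2 * (2 * k))} (he : w.e = false) (hd : w.d = false)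
    (hw : w * w = 1) (hw1 : w ≠ 1) :
    w = tElt k ∨ w = uElt k ∨ w = tor 0 ((2 * k : ℕ) : ZMod (2 * (2 * k))) := by
  rcases w with ⟨x, y, e, d⟩
  subst he hd
  rw [mul_def, one_def] at hw
  simp [sgn] at hw
  rcases double_eq_zero x hw.1 with hx | hx <;> rcases double_eq_zero y hw.2 with hy | hy <;> subst hx hy
  · exact absurd rfl hw1
  · exact Or.inr (Or.inr rfl)
  · exact Or.inr (Or.inl rfl)
  · exact Or.inl rfl

theorem isConj_uElt [NeZero (2 * (2 * k))] {w : GT (2 * (2 * k))} (he : w.e = false) (hd : w.d = false)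
    (hw : w * w = 1) (hw1 : w ≠ 1) (hwt : w ≠ tElt k) : IsConj (uElt k) w := by
  rcases torus_invol he hd hw hw1 with h | h | h
  · exact absurd h hwt
  · rw [h]
  · rw [h, isConj_iff]
    exact ⟨rElt, by ext <;> simp [-Nat.cast_mul, mul_def, inv_def, rElt, uElt, tor, sgn]⟩

/-- An involution with equal parities of its two coordinates: `i₂` type. -/
def IsOdd (w : GT (2 * (2 * k))) : Prop :=
  w.e = true ∧ w.d = false ∧ ∀ c : ZMod (2 * (2 * k)), c + c ≠ w.x - w.y

theorem isConj_of_isOdd [NeZero (2 * (2 * k))] {v w : GT (2 * (2 * k))} (hv : IsOdd v) (hw : IsOdd w) :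
    IsConj v w := by
  obtain ⟨x, y, e, d⟩ := v
  obtain ⟨x', y', e', d'⟩ := w
  obtain ⟨he, hd, hxy⟩ := hv
  obtain ⟨he', hd', hxy'⟩ := hw
  subst he hd he' hd'
  simp only at hxy hxy'
  rw [isConj_iff]
  obtain ⟨c, hc | hc⟩ := exists_half (x' - x)
  · obtain ⟨c', hc' | hc'⟩ := exists_half (y' - y)
    · exact ⟨tor c c', by
        ext <;> simp [-Nat.cast_mul, mul_def, inv_def, tor, sgn]
        · linear_combination -hc
        · linear_combination -hc'⟩
    · obtain ⟨a, ha | ha⟩ := exists_half (x - y)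
      · exact absurd ha.symm (hxy a)
      · exact absurd (by linear_combination -hc + hc' - ha) (hxy' (c - c' + a))
  · obtain ⟨c', hc' | hc'⟩ := exists_half (y' - y)
    · obtain ⟨a, ha | ha⟩ := exists_half (x - y)
      · exact absurd ha.symm (hxy a)
      · exact absurd (by linear_combination -hc + hc' - ha) (hxy' (c - c' + a + 1))
    · obtain ⟨a, ha | ha⟩ := exists_half (x - y)
      · exact absurd ha.symm (hxy a)
      · exact ⟨tor (c + a + 1) (c' - a) * rElt, by
          ext <;> simp [-Nat.cast_mul, mul_def, inv_def, tor, rElt, sgn]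
          · linear_combination -hc - ha
          · linear_combination -hc' + ha⟩

theorem isConj_rElt {w : GT (2 * (2 * k))} (he : w.e = false) (hd : w.d = true) (hw : w * w = 1) :
    IsConj rElt w := by
  rcases w with ⟨x, y, e, d⟩
  subst he hd
  rw [mul_def, one_def] at hw
  simp [sgn] at hw
  rw [isConj_iff]
  refine ⟨tor x 0, ?_⟩
  ext <;> simp [-Nat.cast_mul, mul_def, inv_def, tor, rElt, sgn]
  linear_combination -hw.1

/-- In the centralizer of an involution outside the torus, the central involution is a square or a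
commutator, or the involution has odd type. -/
theorem tElt_derived [NeZero (2 * (2 * k))] {x : GT (2 * (2 * k))} (hx : x * x = 1)
    (h : x.d = true ∨ (x.e = true ∧ ¬ IsOdd x)) :
    (∃ s, s * x = x * s ∧ s * s = tElt k) ∨
      ∃ a c, a * x = x * a ∧ c * x = x * c ∧ a * c * a⁻¹ * c⁻¹ = tElt k := by
  have hh := natCast_half_add (h := 2 * k)
  have hn : -((2 * k : ℕ) : ZMod (2 * (2 * k))) = (2 * k : ℕ) := neg_eq_of_add_eq_zero_left hh
  have hk2 : (k : ZMod (2 * (2 * k))) + k = ((2 * k : ℕ) : ZMod (2 * (2 * k))) := by push_cast; ring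
  obtain ⟨a, b, e, d⟩ := x
  cases d
  · obtain ⟨he, hodd⟩ := h.resolve_left (by simp)
    simp only at he
    subst he
    simp only [IsOdd, true_and, not_forall, not_not] at hodd
    obtain ⟨c, hc⟩ := hodd
    refine Or.inr ⟨⟨c, -c, false, true⟩, uElt k, ?_, ?_, ?_⟩
    · ext <;> simp [-Nat.cast_mul, mul_def, sgn]
      · linear_combination hc * 2 - hc
      · linear_combination -hc
    · ext <;> simp [-Nat.cast_mul, mul_def, sgn, uElt, tor, hn, add_comm]
    · ext <;> simp [-Nat.cast_mul, mul_def, inv_def, sgn, uElt, tor, tElt, hn]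
  · cases e
    · refine Or.inl ⟨tor k k, ?_, ?_⟩
      · ext <;> simp [-Nat.cast_mul, mul_def, sgn, tor, add_comm]
      · ext <;> simp [-Nat.cast_mul, mul_def, sgn, tor, tElt] <;> linear_combination hk2
    · refine Or.inl ⟨tor k (-k), ?_, ?_⟩
      · ext <;> simp [-Nat.cast_mul, mul_def, sgn, tor] <;> ring
      · ext <;> simp [-Nat.cast_mul, mul_def, sgn, tor, tElt]
        · linear_combination hk2
        · linear_combination -hk2 + hn

section group

variable [NeZero (2 * (2 * k))] {G : Type*} [Group G] [Finite G] [IsSimpleGroup G]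
variable (S : Sylow 2 G) (f : GT (2 * (2 * k)) →* G) (hf : Function.Injective f)
  (hS : f.range = (S : Subgroup G))

include hf hS in
omit [IsSimpleGroup G] in
theorem card_sylow : Nat.card (S : Subgroup G) = 64 * k ^ 2 := by
  rw [← hS, ← Nat.card_congr (MonoidHom.ofInjective hf).toEquiv, GT.card_eq]
  ring

include hf hS in
theorem notComm (hk : 0 < k) : ¬ IsMulCommutative G := by
  refine not_commutative S ?_
  rw [card_sylow S f hf hS]
  nlinarith

include hf in
omit [Finite G] [IsSimpleGroup G] [NeZero (2 * (2 * k))] in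
theorem orderOf_f {w : GT (2 * (2 * k))} (hw : w * w = 1) (hw1 : w ≠ 1) : orderOf (f w) = 2 := by
  rw [orderOf_injective f hf]
  exact orderOf_eq_prime (by rw [pow_two, hw]) hw1

include hf in
omit [Finite G] [IsSimpleGroup G] [NeZero (2 * (2 * k))] in
theorem invol_of_conj {w : GT (2 * (2 * k))} {x : G} (hx : orderOf x = 2) (h : IsConj x (f w)) :
    w * w = 1 ∧ w ≠ 1 := by
  obtain ⟨g, hg⟩ := isConj_iff.mp h
  have h2 : orderOf w = 2 := by
    rw [← orderOf_injective f hf, ← hg, ← MulAut.conj_apply, MulEquiv.orderOf_eq, hx]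
  refine ⟨?_, fun h1 => by rw [h1, orderOf_one] at h2; omega⟩
  have := pow_orderOf_eq_one w
  rwa [h2, pow_two] at this

include hS in
omit [IsSimpleGroup G] in
theorem exists_preimage {x : G} (hx : orderOf x = 2) : ∃ w, IsConj x (f w) := by
  have : Fact (Nat.Prime 2) := ⟨Nat.prime_two⟩
  have hp : IsPGroup 2 (Subgroup.zpowers x) := IsPGroup.of_card (n := 1) (by rw [Nat.card_zpowers, hx, pow_one])
  obtain ⟨R, hR⟩ := hp.exists_le_sylow
  obtain ⟨g, hg⟩ := MulAction.exists_smul_eq G R S
  have h2 := Subgroup.smul_mem_pointwise_smul _ (MulAut.conj g) _ (hR (Subgroup.mem_zpowers x))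
  have h3 : MulAut.conj g • x ∈ ((g • R : Sylow 2 G) : Subgroup G) := h2
  rw [hg, ← hS] at h3
  obtain ⟨w, hw⟩ := h3
  exact ⟨w, isConj_iff.mpr ⟨g, by rw [hw]; simp [MulAut.smul_def]⟩⟩

include hf hS in
theorem isConj_t_u (hk : 0 < k) : IsConj (f (tElt k)) (f (uElt k)) := by
  by_contra hcon
  have hh := natCast_half_add (h := 2 * k)
  have hne := natCast_half_ne (h := 2 * k) (by omega)
  have ht1 : tElt k ≠ 1 := fun h => hne (congrArg GT.x h)
  have ht2 : tElt k * tElt k = 1 := by ext <;> simp [-Nat.cast_mul, mul_def, one_def, tElt, tor, sgn] <;> exact_mod_cast hh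
  have hG := notComm S f hf hS hk
  have htS : ∀ s ∈ (S : Subgroup G), s * f (tElt k) = f (tElt k) * s := by
    intro s hs
    rw [← hS] at hs
    obtain ⟨w, rfl⟩ := hs
    rw [← map_mul, ← map_mul, tElt_comm]
  obtain ⟨x, hxS, hxt, hxc⟩ := exists_fused hG S _ (orderOf_f f hf ht2 ht1) htS
  rw [← hS] at hxS
  obtain ⟨w, rfl⟩ := hxS
  obtain ⟨g, hg, hgS⟩ := exists_conj_central S _ _ htS hxc
  have him : ∀ a, a * w = w * a → ∃ a', f a' = g * f a * g⁻¹ := by
    intro a ha
    have h := hgS (f a) (hS ▸ ⟨a, rfl⟩) (by rw [← map_mul, ← map_mul, ha])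
    rw [← hS] at h
    exact h
  -- a conjugate of the central involution in the torus is central
  have hA : ∀ v : GT (2 * (2 * k)), IsConj (f (tElt k)) (f v) → v.e = false → v.d = false → v = tElt k := by
    intro v hv he hd
    obtain ⟨hv2, hv1⟩ := invol_of_conj f hf (orderOf_f f hf ht2 ht1) hv
    by_contra hvt
    exact hcon (hv.trans ((f.map_isConj (isConj_uElt he hd hv2 hv1 hvt)).symm))
  obtain ⟨hw2, hw1⟩ := invol_of_conj f hf (orderOf_f f hf ht2 ht1) hxc.symm
  obtain ⟨t', ht'⟩ := him (tElt k) (tElt_comm w).symm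
  have ht'c : IsConj (f (tElt k)) (f t') := isConj_iff.mpr ⟨g, ht'.symm⟩
  have ht'ne : t' ≠ tElt k := by
    intro h
    rw [h] at ht'
    exact hxt (mul_left_cancel (mul_right_cancel (hg.trans ht')))
  -- every conjugate in S other than the central involution has odd type
  have hodd : ∀ v : GT (2 * (2 * k)), IsConj (f (tElt k)) (f v) → v ≠ tElt k → IsOdd v := by
    intro v hv hvt
    by_contra hno
    obtain ⟨hv2, hv1⟩ := invol_of_conj f hf (orderOf_f f hf ht2 ht1) hv
    have hcase : v.d = true ∨ (v.e = true ∧ ¬ IsOdd v) := by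
      rcases hd : v.d with _ | _
      · rcases he : v.e with _ | _
        · exact absurd (hA v hv he hd) hvt
        · exact Or.inr ⟨rfl, hno⟩
      · exact Or.inl rfl
    obtain ⟨g₁, hg₁, hg₁S⟩ := exists_conj_central S _ _ htS hv.symm
    have him₁ : ∀ a, a * v = v * a → ∃ a', f a' = g₁ * f a * g₁⁻¹ := by
      intro a ha
      have h := hg₁S (f a) (hS ▸ ⟨a, rfl⟩) (by rw [← map_mul, ← map_mul, ha])
      rw [← hS] at h
      exact h
    have key : ∃ t₁, f t₁ = g₁ * f (tElt k) * g₁⁻¹ ∧ t₁.e = false ∧ t₁.d = false := by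
      rcases tElt_derived hv2 hcase with ⟨s, hs, hss⟩ | ⟨a, c, ha, hc, hac⟩
      · obtain ⟨s', hs'⟩ := him₁ s hs
        exact ⟨s' * s', by rw [map_mul, hs', ← hss, map_mul]; group, (sq_parts s').1, (sq_parts s').2⟩
      · obtain ⟨a', ha'⟩ := him₁ a ha
        obtain ⟨c', hc'⟩ := him₁ c hc
        exact ⟨a' * c' * a'⁻¹ * c'⁻¹, by simp only [← hac, map_mul, map_inv, ha', hc']; group,
          (comm_parts a' c').1, (comm_parts a' c').2⟩
    obtain ⟨t₁, ht₁, he, hd⟩ := key
    have h := hA t₁ (isConj_iff.mpr ⟨g₁, ht₁.symm⟩) he hd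
    rw [h] at ht₁
    exact hvt (hf (mul_left_cancel (mul_right_cancel (hg₁.trans ht₁))))
  have how : IsOdd w := hodd w hxc.symm fun h => hxt (by rw [h])
  have hot : IsOdd t' := hodd t' ht'c ht'ne
  have hn : -((2 * k : ℕ) : ZMod (2 * (2 * k))) = (2 * k : ℕ) := neg_eq_of_add_eq_zero_left hh
  -- the two other torus involutions go to themselves
  have hu : ∀ v : GT (2 * (2 * k)), v.e = false → v.d = false → v * v = 1 → v ≠ 1 → v ≠ tElt k →
      ∃ v', f v' = g * f v * g⁻¹ ∧ IsConj (f (uElt k)) (f v') ∧ v'.e = false ∧ v'.d = false ∧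
        v' * v' = 1 ∧ v' ≠ 1 ∧ v' ≠ tElt k := by
    intro v he hd hv2 hv1 hvt
    have hvw : v * w = w * v := by
      obtain ⟨hwe, hwd, -⟩ := how
      rcases torus_invol he hd hv2 hv1 with h | h | h <;> subst h <;>
        rcases w with ⟨a, b, e, d⟩ <;> simp only at hwe hwd <;> subst hwe hwd <;>
        ext <;> simp [-Nat.cast_mul, mul_def, sgn, tElt, uElt, tor, hn, add_comm]
    obtain ⟨v', hv'⟩ := him v hvw
    have hc : IsConj (f (uElt k)) (f v') :=
      (f.map_isConj (isConj_uElt he hd hv2 hv1 hvt)).trans (isConj_iff.mpr ⟨g, hv'.symm⟩)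
    obtain ⟨hu2, hu1⟩ := invol_of_conj f hf (orderOf_f f hf hv2 hv1) (isConj_iff.mpr ⟨g, hv'.symm⟩)
    have hvt' : v' ≠ tElt k := fun h => hcon (by rw [← h]; exact hc.symm)
    have hcomm : v' * t' = t' * v' := by
      apply hf
      rw [map_mul, map_mul, hv', ht']
      have e := congrArg f (tElt_comm v)
      rw [map_mul, map_mul] at e
      calc g * f v * g⁻¹ * (g * f (tElt k) * g⁻¹) = g * (f v * f (tElt k)) * g⁻¹ := by group
        _ = g * (f (tElt k) * f v) * g⁻¹ := by rw [e]
        _ = _ := by group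
    obtain ⟨hte, htd, htodd⟩ := hot
    -- parts of v'
    have hd' : v'.d = false := by
      by_contra hd'
      rw [Bool.not_eq_false] at hd'
      rcases v' with ⟨a, b, e, d⟩
      rcases t' with ⟨p, q, e', d'⟩
      simp only at hte htd hd' htodd
      subst hte htd hd'
      rw [mul_def, mul_def] at hcomm
      cases e <;> simp [sgn] at hcomm
      · exact htodd a (by linear_combination hcomm.1)
      · exact htodd (a - q) (by linear_combination hcomm.1)
    refine ⟨v', hv', hc, ?_, hd', hu2, hu1, hvt'⟩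
    by_contra he'
    rw [Bool.not_eq_false] at he'
    apply hcon
    have hso : IsOdd v' := by
      refine ⟨he', hd', fun c hcc => ?_⟩
      rcases v' with ⟨a, b, e, d⟩
      rcases t' with ⟨p, q, e', d'⟩
      simp only at hte htd hd' he' hcc htodd
      subst hte htd hd' he'
      rw [mul_def, mul_def] at hcomm
      simp [sgn] at hcomm
      rcases double_eq_zero (a - p) (by linear_combination hcomm.1) with ha | ha <;>
        rcases double_eq_zero (b - q) (by linear_combination hcomm.2) with hb | hb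
      · exact htodd c (by linear_combination hcc + ha - hb)
      · exact htodd (c + k) (by push_cast at hb ⊢; linear_combination hcc + ha - hb)
      · exact htodd (c - k) (by push_cast at ha ⊢; linear_combination hcc + ha - hb)
      · exact htodd c (by push_cast at ha hb ⊢; linear_combination hcc + ha - hb)
    exact ht'c.trans ((f.map_isConj (isConj_of_isOdd ⟨hte, htd, htodd⟩ hso)).trans hc.symm)
  -- conclusion
  set u' : GT (2 * (2 * k)) := tor 0 ((2 * k : ℕ) : ZMod (2 * (2 * k))) with hu'
  have h2 : uElt k * uElt k = 1 := by ext <;> simp [-Nat.cast_mul, mul_def, one_def, uElt, tor, sgn]; exact_mod_cast hh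
  have h1 : uElt k ≠ 1 := fun h => hne (congrArg GT.x h)
  have h0 : uElt k ≠ tElt k := fun h => hne (congrArg GT.y h).symm
  have h2' : u' * u' = 1 := by ext <;> simp [-Nat.cast_mul, mul_def, one_def, hu', tor, sgn]; exact_mod_cast hh
  have h1' : u' ≠ 1 := fun h => hne (congrArg GT.y h)
  have h0' : u' ≠ tElt k := fun h => hne (congrArg GT.x h).symm
  obtain ⟨a, ha, -, hae, had, ha2, ha1, hat⟩ := hu (uElt k) rfl rfl h2 h1 h0
  obtain ⟨c, hc, -, hce, hcd, hc2, hc1, hct⟩ := hu u' rfl rfl h2' h1' h0'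
  have hac : a ≠ c := by
    intro h
    rw [h, hc] at ha
    exact hne (congrArg GT.x (hf (mul_left_cancel (mul_right_cancel ha)))).symm
  have hprod : a * c = tElt k := by
    rcases torus_invol hae had ha2 ha1 with h | h | h
    · exact absurd h hat
    · rcases torus_invol hce hcd hc2 hc1 with h' | h' | h'
      · exact absurd h' hct
      · exact absurd (h.trans h'.symm) hac
      · rw [h, h']; ext <;> simp [-Nat.cast_mul, mul_def, uElt, tElt, tor, sgn]
    · rcases torus_invol hce hcd hc2 hc1 with h' | h' | h'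
      · exact absurd h' hct
      · rw [h, h']; ext <;> simp [-Nat.cast_mul, mul_def, uElt, tElt, tor, sgn]
      · exact absurd (h.trans h'.symm) hac
  have huu : uElt k * u' = tElt k := by ext <;> simp [-Nat.cast_mul, mul_def, uElt, hu', tElt, tor, sgn]
  apply hxt
  have e : f (tElt k) = g * f (tElt k) * g⁻¹ := by
    conv_lhs => rw [← hprod]
    conv_rhs => rw [← huu]
    rw [map_mul, map_mul, ha, hc]
    group
  exact mul_left_cancel (mul_right_cancel (hg.trans e))

include hf hS in
theorem classes (hk : 0 < k) (x : G) (hx : orderOf x = 2) :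
    IsConj x (f (tElt k)) ∨ IsConj x (f rElt) := by
  have hG := notComm S f hf hS hk
  obtain ⟨w, hw⟩ := exists_preimage S f hS hx
  obtain ⟨hw2, hw1⟩ := invol_of_conj f hf hx hw
  -- move into the kernel of the inversion part
  obtain ⟨v, hv, hve⟩ : ∃ v, IsConj x (f v) ∧ v.e = false := by
    rcases he : w.e with _ | _
    · exact ⟨w, hw, he⟩
    · obtain ⟨g, hg, -⟩ := exists_conj_mem hG S (kerE.map f) (by rw [← hS]; exact Subgroup.map_le_range f _) (by
          rw [← hS, MonoidHom.range_eq_map, Subgroup.relIndex_map_map_of_injective _ _ hf,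
            Subgroup.relIndex_top_right, index_kerE])
        (f w) (orderOf_f f hf hw2 hw1) (hS ▸ ⟨w, rfl⟩) (by
          rintro ⟨v, hv, hvw⟩
          rw [hf hvw] at hv
          exact Bool.false_ne_true ((mem_kerE.mp hv).symm.trans he))
      obtain ⟨v, hv, hvg⟩ := hg
      exact ⟨v, hw.trans (isConj_iff.mpr ⟨g, hvg.symm⟩), hv⟩
  obtain ⟨hv2, hv1⟩ := invol_of_conj f hf hx hv
  rcases hd : v.d with _ | _
  · left
    by_cases hvt : v = tElt k
    · rw [← hvt]; exact hv
    · exact hv.trans (((f.map_isConj (isConj_uElt hve hd hv2 hv1 hvt)).symm).trans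
        (isConj_t_u S f hf hS hk).symm)
  · exact Or.inr (hv.trans (f.map_isConj (isConj_rElt hve hd hv2)).symm)

include hf hS in
theorem rElt_conj_t (hk : 2 ≤ k) : IsConj (f rElt) (f (tElt k)) := by
  have hG := notComm S f hf hS (by omega)
  have hr2 : (rElt : GT (2 * (2 * k))) * rElt = 1 := by ext <;> simp [-Nat.cast_mul, mul_def, one_def, rElt, sgn]
  have hr1 : (rElt : GT (2 * (2 * k))) ≠ 1 := fun h => Bool.false_ne_true (congrArg GT.d h).symm
  obtain ⟨g, hg, hgC⟩ := exists_conj_mem hG S (kerD.map f) (by rw [← hS]; exact Subgroup.map_le_range f _) (by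
      rw [← hS, MonoidHom.range_eq_map, Subgroup.relIndex_map_map_of_injective _ _ hf,
        Subgroup.relIndex_top_right, index_kerD])
    (f rElt) (orderOf_f f hf hr2 hr1) (hS ▸ ⟨rElt, rfl⟩) (by
      rintro ⟨v, hv, hvw⟩
      rw [hf hvw] at hv
      exact Bool.false_ne_true (mem_kerD.mp hv).symm)
  obtain ⟨v, hv, hvg⟩ := hg
  have hvd : v.d = false := mem_kerD.mp hv
  have hc : IsConj (f rElt) (f v) := isConj_iff.mpr ⟨g, hvg.symm⟩
  obtain ⟨hv2, hv1⟩ := invol_of_conj f hf (orderOf_f f hf hr2 hr1) hc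
  rcases he : v.e with _ | _
  · by_cases hvt : v = tElt k
    · rw [← hvt]; exact hc
    · exact hc.trans (((f.map_isConj (isConj_uElt he hvd hv2 hv1 hvt)).symm).trans
        (isConj_t_u S f hf hS (by omega)).symm)
  · -- the centralizer of the swap has an element of order greater than four
    exfalso
    set s : GT (2 * (2 * k)) := tor 1 1 with hs
    have hsr : s * rElt = rElt * s := by ext <;> simp [-Nat.cast_mul, mul_def, hs, tor, rElt, sgn]
    have h := hgC (f s) (hS ▸ ⟨s, rfl⟩) (by rw [← map_mul, ← map_mul, hsr])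
    rw [← hS] at h
    obtain ⟨s', hs'⟩ := h
    have hcomm : s' * v = v * s' := by
      apply hf
      rw [map_mul, map_mul, hs', hvg]
      have e := congrArg f hsr
      rw [map_mul, map_mul] at e
      calc g * f s * g⁻¹ * (g * f rElt * g⁻¹) = g * (f s * f rElt) * g⁻¹ := by group
        _ = g * (f rElt * f s) * g⁻¹ := by rw [e]
        _ = _ := by group
    have h4 : f (s ^ 4) = 1 := by
      have h := congrArg f (pow_four_of_commute he hvd hcomm)
      rw [map_pow, hs', conj_pow, map_one, ← map_pow] at h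
      calc f (s ^ 4) = g⁻¹ * (g * f (s ^ 4) * g⁻¹) * g := by group
        _ = 1 := by rw [h]; group
    rw [← map_one f] at h4
    have h5 := congrArg GT.x (hf h4)
    have h6 : ((4 : ℕ) : ZMod (2 * (2 * k))) = 0 := by
      push_cast
      rw [← (show (GT.x ((1 : GT (2 * (2 * k)))) = 0) from rfl), ← h5]
      simp [pow_succ, mul_def, hs, tor, sgn, one_def]
      norm_num
    rw [ZMod.natCast_eq_zero_iff] at h6
    have := Nat.le_of_dvd (by omega) h6
    omega

include hf hS in
theorem main (hk : 0 < k) :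
    (∀ x y : G, orderOf x = 2 → orderOf y = 2 → IsConj x y) ∨
      (Nat.card (S : Subgroup G) = 64 ∧ ∃ x y : G, orderOf x = 2 ∧ orderOf y = 2 ∧ ¬ IsConj x y ∧
        ∀ z : G, orderOf z = 2 → IsConj z x ∨ IsConj z y) := by
  by_cases hr : IsConj (f rElt) (f (tElt k))
  · left
    have h : ∀ x : G, orderOf x = 2 → IsConj x (f (tElt k)) := fun x hx =>
      (classes S f hf hS hk x hx).elim id fun h => h.trans hr
    exact fun x y hx hy => (h x hx).trans (h y hy).symm
  · right
    have hk1 : k = 1 := by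
      by_contra h
      exact hr (rElt_conj_t S f hf hS (by omega))
    refine ⟨by rw [card_sylow S f hf hS, hk1]; rfl, f (tElt k), f rElt, ?_, ?_, fun h => hr h.symm,
      fun z hz => classes S f hf hS hk z hz⟩
    · refine orderOf_f f hf ?_ fun h => natCast_half_ne (h := 2 * k) (by omega) (congrArg GT.x h)
      ext <;> simp [-Nat.cast_mul, mul_def, one_def, tElt, tor, sgn] <;> exact_mod_cast natCast_half_add (h := 2 * k)
    · refine orderOf_f f hf ?_ fun h => Bool.false_ne_true (congrArg GT.d h).symm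
      ext <;> simp [-Nat.cast_mul, mul_def, one_def, rElt, sgn]

end group

end CfsgLib.G2SylowFusion
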