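import Mathlib
import Cfsg.Agent.G2SylowFusion.Model
import Cfsg.Agent.BlocksCharsC.PGroupCenter

/-!
# Homomorphisms out of the model group
-/

set_option autoImplicit false

namespace CfsgLib.G2SylowFusion

variable {G : Type*} [Group G]

/-- Four elements satisfying the defining relations of the model group. -/
structure Rels (n : ℕ) (a b i r : G) : Prop where
  an : a ^ n = 1
  bn : b ^ n = 1
  ab : a * b = b * a
  i2 : i * i = 1
  r2 : r * r = 1
  ir : i * r = r * i
  ia : i * a * i = a⁻¹
  ib : i * b * i = b⁻¹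
  ra : r * a * r = b

namespace GT

variable {n : ℕ} [NeZero n] {a b i r : G}

/-- The torus part. -/
def torPart (a b : G) (x y : ZMod n) : G := a ^ x.val * b ^ y.val

/-- The part outside the torus. -/
def outPart (i r : G) (e d : Bool) : G := (if e then i else 1) * (if d then r else 1)

theorem pow_val_add (ha : a ^ n = 1) (x y : ZMod n) : a ^ (x + y).val = a ^ x.val * a ^ y.val := by
  rw [ZMod.val_add, ← pow_eq_pow_mod _ ha, pow_add]

theorem pow_val_neg (ha : a ^ n = 1) (x : ZMod n) : a ^ (-x).val = (a ^ x.val)⁻¹ := by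
  refine (inv_eq_of_mul_eq_one_left ?_).symm
  rw [← pow_val_add ha, neg_add_cancel, ZMod.val_zero, pow_zero]

theorem torPart_add (h : Rels n a b i r) (x y x' y' : ZMod n) :
    torPart a b (x + x') (y + y') = torPart a b x y * torPart a b x' y' := by
  unfold torPart
  rw [pow_val_add h.an, pow_val_add h.bn, mul_assoc, mul_assoc]
  congr 1
  rw [← mul_assoc, ← mul_assoc]
  congr 1
  exact (Commute.pow_pow h.ab _ _).eq

theorem i_torPart (h : Rels n a b i r) (x y : ZMod n) :
    i * torPart a b x y = torPart a b (-x) (-y) * i := by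
  have hi : i⁻¹ = i := inv_eq_of_mul_eq_one_right h.i2
  have ha : i * a * i⁻¹ = a⁻¹ := by rw [hi]; exact h.ia
  have hb : i * b * i⁻¹ = b⁻¹ := by rw [hi]; exact h.ib
  unfold torPart
  rw [pow_val_neg h.an, pow_val_neg h.bn, ← inv_pow, ← inv_pow, ← ha, ← hb, conj_pow, conj_pow]
  group

theorem r_torPart (h : Rels n a b i r) (x y : ZMod n) :
    r * torPart a b x y = torPart a b y x * r := by
  have hr : r⁻¹ = r := inv_eq_of_mul_eq_one_right h.r2
  have ha : r * a * r⁻¹ = b := by rw [hr]; exact h.ra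
  have hb : r * b * r⁻¹ = a := by
    rw [hr, ← h.ra]
    calc r * (r * a * r) * r = r * r * a * (r * r) := by group
      _ = a := by rw [h.r2, one_mul, mul_one]
  have e : r * (a ^ x.val * b ^ y.val) * r⁻¹ = a ^ y.val * b ^ x.val := by
    rw [show r * (a ^ x.val * b ^ y.val) * r⁻¹ = r * a ^ x.val * r⁻¹ * (r * b ^ y.val * r⁻¹) by group,
      ← conj_pow, ← conj_pow, ha, hb]
    exact (Commute.pow_pow h.ab.symm _ _).eq
  unfold torPart
  exact mul_inv_eq_iff_eq_mul.mp e

theorem out_torPart (h : Rels n a b i r) (e d : Bool) (x y : ZMod n) :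
    outPart i r e d * torPart a b x y =
      torPart a b (sgn e (if d then y else x)) (sgn e (if d then x else y)) * outPart i r e d := by
  cases e <;> cases d <;> simp [outPart, sgn]
  · exact r_torPart h x y
  · exact i_torPart h x y
  · rw [mul_assoc, r_torPart h, ← mul_assoc, i_torPart h, mul_assoc]

theorem out_mul (h : Rels n a b i r) (e d e' d' : Bool) :
    outPart i r e d * outPart i r e' d' = outPart i r (xor e e') (xor d d') := by
  have h3 : ∀ z : G, i * (i * z) = z := fun z => by rw [← mul_assoc, h.i2, one_mul]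
  have h4 : ∀ z : G, r * (i * z) = i * (r * z) := fun z => by rw [← mul_assoc, ← h.ir, mul_assoc]
  cases e <;> cases d <;> cases e' <;> cases d' <;>
    simp [outPart, h.i2, h.r2, h3, h4, ← h.ir, mul_assoc]

/-- The homomorphism defined by four elements satisfying the relations. -/
def lift (h : Rels n a b i r) : GT n →* G :=
  MonoidHom.mk' (fun g => torPart a b g.x g.y * outPart i r g.e g.d) fun g g' => by
    rw [mul_def]
    simp only
    rw [torPart_add h, show torPart a b g.x g.y * outPart i r g.e g.d *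
      (torPart a b g'.x g'.y * outPart i r g'.e g'.d) = torPart a b g.x g.y *
      (outPart i r g.e g.d * torPart a b g'.x g'.y) * outPart i r g'.e g'.d by group,
      out_torPart h, ← out_mul h]
    group

theorem lift_tor (h : Rels n a b i r) (x y : ZMod n) : lift h (tor x y) = a ^ x.val * b ^ y.val := by
  simp [lift, tor, torPart, outPart]

end GT

/-- A nontrivial normal subgroup contains the central involution. -/
theorem lift_injective {j : ℕ} (hj : 1 ≤ j) {a b i r : G} (h : Rels (2 ^ (j + 1)) a b i r)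
    (ht : a ^ (2 ^ j) * b ^ (2 ^ j) ≠ 1) : Function.Injective (GT.lift h) := by
  haveI : Fact (Nat.Prime 2) := ⟨Nat.prime_two⟩
  rw [← MonoidHom.ker_eq_bot_iff]
  by_contra hne
  set K := (GT.lift h).ker with hK
  have hp : IsPGroup 2 (GT (2 ^ (j + 1))) := by
    refine IsPGroup.of_card (n := 2 * (j + 1) + 2) ?_
    rw [GT.card_eq]
    ring
  haveI : Nontrivial K := (Subgroup.nontrivial_iff_ne_bot _).mpr hne
  obtain ⟨z, hz, hzK, hz2⟩ : ∃ z : GT (2 ^ (j + 1)), z ∈ Subgroup.center _ ∧ z ∈ K ∧ orderOf z = 2 := by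
    obtain ⟨z0, ⟨hz0K, hz0c⟩, hz01⟩ := CfsgLib.BlocksCharsC.exists_mem_ne_one
      (CfsgLib.BlocksCharsC.inf_center_ne_bot hp K)
    obtain ⟨m, hm, hord⟩ := (Nat.dvd_prime_pow Nat.prime_two).mp
      (hp.exists_card_eq.choose_spec ▸ orderOf_dvd_natCard z0 : orderOf z0 ∣ 2 ^ hp.exists_card_eq.choose)
    rcases m with _ | m
    · exact absurd (orderOf_eq_one_iff.mp (by simpa using hord)) hz01
    · refine ⟨z0 ^ (2 ^ m), pow_mem hz0c _, pow_mem hz0K _, ?_⟩
      rw [orderOf_pow_of_dvd (by positivity) (hord ▸ pow_dvd_pow 2 (Nat.le_succ m)), hord, pow_succ,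
        Nat.mul_div_cancel_left _ (by positivity)]
  have hsq : z * z = 1 := by
    have := pow_orderOf_eq_one z
    rwa [hz2, pow_two] at this
  have hz1 : z ≠ 1 := fun h => by rw [h, orderOf_one] at hz2; omega
  obtain ⟨hd, hex⟩ : z.d = false ∧ (z.e = false ∧ z.x = z.y) := by
    rcases z with ⟨x, y, e, d⟩
    have e1 := Subgroup.mem_center_iff.mp hz (GT.tor 1 0)
    have e2 := Subgroup.mem_center_iff.mp hz GT.rElt
    have h21 : (2 : ZMod (2 ^ (j + 1))) ≠ 0 := by
      rw [show (2 : ZMod (2 ^ (j + 1))) = ((2 : ℕ) : ZMod (2 ^ (j + 1))) by simp, Ne,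
        ZMod.natCast_eq_zero_iff]
      intro hd
      have := (Nat.pow_dvd_pow_iff_le_right (x := 2) (by norm_num)).mp (by simpa using hd : 2 ^ (j + 1) ∣ 2 ^ 1)
      omega
    have h10 : (1 : ZMod (2 ^ (j + 1))) ≠ 0 := by
      rw [show (1 : ZMod (2 ^ (j + 1))) = ((1 : ℕ) : ZMod (2 ^ (j + 1))) by simp, Ne,
        ZMod.natCast_eq_zero_iff, Nat.dvd_one]
      exact (Nat.one_lt_two_pow (Nat.succ_ne_zero j)).ne'
    cases d
    · refine ⟨rfl, ?_, ?_⟩
      · cases e
        · rfl
        · exfalso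
          apply h21
          have := congrArg GT.x e1
          simp [GT.mul_def, GT.tor, GT.sgn] at this
          linear_combination this
      · have := congrArg GT.x e2
        simp [GT.mul_def, GT.rElt] at this
        cases e <;> simp [GT.sgn] at this <;> exact this.symm
    · exfalso
      have := congrArg GT.y e1
      cases e <;> simp [GT.mul_def, GT.tor, GT.sgn] at this <;> exact h10 this
  rcases z with ⟨x, y, e, d⟩
  obtain ⟨he, hxy⟩ := hex
  simp only at hd he hxy
  subst hd he hxy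
  rw [GT.mul_def, GT.one_def] at hsq
  simp [GT.sgn] at hsq
  have hx : x = ((2 ^ j : ℕ) : ZMod (2 ^ (j + 1))) := by
    obtain ⟨m, hm, rfl⟩ : ∃ m : ℕ, m < 2 ^ (j + 1) ∧ (m : ZMod (2 ^ (j + 1))) = x :=
      ⟨x.val, x.val_lt, ZMod.natCast_zmod_val x⟩
    rw [← Nat.cast_add, ZMod.natCast_eq_zero_iff] at hsq
    obtain ⟨c, hc⟩ := hsq
    have hp2 : 2 ^ (j + 1) = 2 * 2 ^ j := by rw [pow_succ]; ring
    rcases c with _ | _ | c
    · exact absurd (by simp [show m = 0 by omega, GT.one_def]) hz1
    · rw [show m = 2 ^ j by omega]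
    · nlinarith
  apply ht
  have hv : ((2 ^ j : ℕ) : ZMod (2 ^ (j + 1))).val = 2 ^ j :=
    ZMod.val_natCast_of_lt (Nat.pow_lt_pow_right (by norm_num) (Nat.lt_succ_self j))
  have := GT.lift_tor h x x
  rw [hx, hv] at this
  rw [← this, ← hx]
  exact hzK

end CfsgLib.G2SylowFusion
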