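import Mathlib
import Cfsg.Agent.SylowTwoAb.G2Model
import Cfsg.Agent.G2Octonion.Iso
import Cfsg.Agent.G2SylowFusion.Lift

/-!
# The model group as a Sylow `2`-subgroup of `G₂(q)`
-/

set_option autoImplicit false
set_option linter.style.haveILetI false

namespace CfsgLib.G2SylowFusion

open Matrix Cfsg.Lie CfsgLib.SylowTwoAb.Oct

variable {F : Type*} [Field F]

/-- Scalar matrices. -/
noncomputable def sc : Fˣ →* GL (Fin 2) F := Units.map (Matrix.scalar (Fin 2)).toMonoidHom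

theorem sc_val (c : Fˣ) : ((sc c : GL (Fin 2) F) : Matrix (Fin 2) (Fin 2) F) = (c : F) • 1 := by
  simp [sc, Matrix.smul_one_eq_diagonal]

theorem sc_comm (c : Fˣ) (g : GL (Fin 2) F) : sc c * g = g * sc c := by
  apply Units.ext
  simp [sc_val]

theorem det_sc (c : Fˣ) : GeneralLinearGroup.det (sc c) = c ^ 2 := by
  ext
  simp [sc_val, Matrix.det_fin_two, pow_two]

theorem sc_injective : Function.Injective (sc : Fˣ →* GL (Fin 2) F) := by
  intro a b h
  have := congrArg (fun g : GL (Fin 2) F => (g : Matrix (Fin 2) (Fin 2) F) 0 0) h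
  simp [sc_val] at this
  exact Units.ext this

/-- An invertible matrix. -/
noncomputable def mkGL (M : Matrix (Fin 2) (Fin 2) F) (h : M.det ≠ 0) : GL (Fin 2) F :=
  Matrix.nonsingInvUnit M (isUnit_iff_ne_zero.mpr h)

theorem mkGL_val (M : Matrix (Fin 2) (Fin 2) F) (h : M.det ≠ 0) :
    ((mkGL M h : GL (Fin 2) F) : Matrix (Fin 2) (Fin 2) F) = M := rfl

/-- Pairs with equal determinants. -/
def EqDet (F : Type*) [Field F] : Subgroup (GL (Fin 2) F × GL (Fin 2) F) :=
  (GeneralLinearGroup.det.comp (MonoidHom.fst _ _)).eqLocus (GeneralLinearGroup.det.comp (MonoidHom.snd _ _))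

/-- Their action on the octonions. -/
noncomputable def act : EqDet F →* G2 F :=
  pairHom ((MonoidHom.fst _ _).comp (EqDet F).subtype) ((MonoidHom.snd _ _).comp (EqDet F).subtype)
    fun w => congrArg Units.val (w.2 : GeneralLinearGroup.det w.1.1 = GeneralLinearGroup.det w.1.2)

theorem act_scalar (X : EqDet F) (c : Fˣ) (h1 : X.1.1 = sc c) (h2 : X.1.2 = sc c) : act X = 1 := by
  refine (pairHom_eq_one_iff _ _ _ X).2 ?_
  refine LinearMap.ext fun x => ?_
  show pairLin X.1.1 X.1.2 x = x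
  rw [h1, h2, pairLin_apply, ← map_inv, sc_val, sc_val]
  simp [smul_smul, mk8_parts]

theorem act_eq (X Y : EqDet F) (c : Fˣ) (h1 : X.1.1 = sc c * Y.1.1) (h2 : X.1.2 = sc c * Y.1.2) :
    act X = act Y := by
  have h := act_scalar (X * Y⁻¹) c
    (by show X.1.1 * Y.1.1⁻¹ = sc c; rw [h1, mul_inv_cancel_right])
    (by show X.1.2 * Y.1.2⁻¹ = sc c; rw [h2, mul_inv_cancel_right])
  rwa [map_mul, map_inv, mul_inv_eq_one] at h

theorem eq_of_act_eq_one {X : EqDet F} (h : act X = 1) : X.1.2 = X.1.1 := by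
  exact (scalar_of_pairLin_eq_id ((pairHom_eq_one_iff _ _ _ X).1 h)).2

/-- The data needed for the embedding. -/
structure Data (j : ℕ) (u w z : GL (Fin 2) F) (D : Fˣ) : Prop where
  zu : z * u = u * z
  wu : w * u = sc (GeneralLinearGroup.det u) * u⁻¹ * w
  zw : z * w = sc (-1) * (w * z)
  ww : w * w = sc D
  zz : z * z = sc D
  det_eq : GeneralLinearGroup.det w = GeneralLinearGroup.det z
  un : u ^ (2 ^ (j + 1)) = sc (-(GeneralLinearGroup.det u) ^ (2 ^ j))

theorem exists_rels {j : ℕ} {u w z : GL (Fin 2) F} {D : Fˣ} (h2 : (2 : F) ≠ 0) (h : Data j u w z D) :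
    ∃ a b i r : G2 F, Rels (2 ^ (j + 1)) a b i r ∧ a ^ (2 ^ j) * b ^ (2 ^ j) ≠ 1 := by
  set δ := GeneralLinearGroup.det u with hδ
  set ub := sc δ * u⁻¹ with hub
  have hubu : ub * u = sc δ := by rw [hub, inv_mul_cancel_right]
  have huub : u * ub = sc δ := by rw [hub, ← mul_assoc, ← sc_comm, mul_inv_cancel_right]
  have hdub : GeneralLinearGroup.det ub = δ := by
    rw [hub, map_mul, det_sc, map_inv, ← hδ, pow_two, mul_inv_cancel_right]
  have hzub : z * ub = ub * z := by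
    rw [hub, ← mul_assoc, ← sc_comm, mul_assoc, mul_assoc]
    congr 1
    exact (Commute.inv_right h.zu).eq
  have hwub : w * ub = u * w := by
    refine Eq.symm ?_
    calc u * w = u * (w * u) * u⁻¹ := by group
      _ = u * (ub * w) * u⁻¹ := by rw [h.wu, ← hδ, ← hub]
      _ = sc δ * (w * u⁻¹) := by rw [← mul_assoc, huub, mul_assoc]
      _ = w * ub := by rw [← mul_assoc, sc_comm, hub, ← mul_assoc]
  let A : EqDet F := ⟨(ub, u), hdub⟩
  let B : EqDet F := ⟨(u, u), rfl⟩
  let I : EqDet F := ⟨(w * z, w * z), rfl⟩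
  let R : EqDet F := ⟨(w, z), h.det_eq⟩
  have hi2 : act I * act I = 1 := by
    rw [← map_mul]
    have e : w * z * (w * z) = sc (-1 * (D * D)) := by
      rw [map_mul, map_mul]
      calc w * z * (w * z) = w * (z * w) * z := by group
        _ = sc (-1) * (w * w * (z * z)) := by rw [h.zw, ← mul_assoc w, ← sc_comm]; group
        _ = _ := by rw [h.ww, h.zz]
    exact act_scalar _ _ e e
  have hr2 : act R * act R = 1 := by
    rw [← map_mul]
    exact act_scalar _ D h.ww h.zz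
  have hiai : ∀ X : EqDet F, X.1.1 * (w * z) * X.1.1 = sc δ * (w * z) →
      X.1.2 * (w * z) * X.1.2 = sc δ * (w * z) → act I * act X * act I = (act X)⁻¹ := by
    intro X e1 e2
    have e : act X * act I * act X = act I := by
      rw [← map_mul, ← map_mul]; exact act_eq _ _ δ e1 e2
    refine eq_inv_of_mul_eq_one_right ?_
    calc act X * (act I * act X * act I) = act X * act I * act X * act I := by group
      _ = 1 := by rw [e, hi2]
  have hr' : w * z * u = ub * (w * z) := by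
    rw [mul_assoc, h.zu, ← mul_assoc, h.wu, mul_assoc]
  have hr'' : w * z * ub = u * (w * z) := by rw [mul_assoc, hzub, ← mul_assoc, hwub, mul_assoc]
  have eu : u * (w * z) * u = sc δ * (w * z) := by rw [mul_assoc, hr', ← mul_assoc, huub]
  have eub : ub * (w * z) * ub = sc δ * (w * z) := by rw [mul_assoc, hr'', ← mul_assoc, hubu]
  have hν : (-δ ^ (2 ^ j)) * (-δ ^ (2 ^ j)) = δ ^ (2 ^ (j + 1)) := by
    rw [neg_mul_neg, ← pow_add, pow_succ, mul_two]
  have hubn : ub ^ (2 ^ (j + 1)) = sc (-δ ^ (2 ^ j)) := by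
    rw [hub, Commute.mul_pow (sc_comm δ u⁻¹), inv_pow, h.un, ← hδ, ← map_pow, ← map_inv, ← map_mul,
      ← hν, mul_inv_cancel_right]
  have hab : A * B = B * A := Subtype.ext (Prod.ext (hubu.trans huub.symm) rfl)
  refine ⟨act A, act B, act I, act R, ⟨?_, ?_, ?_, hi2, hr2, ?_, hiai A eub eu, hiai B eu eu, ?_⟩, ?_⟩
  · rw [← map_pow]; exact act_scalar _ _ hubn h.un
  · rw [← map_pow]; exact act_scalar _ _ h.un h.un
  · rw [← map_mul, hab, map_mul]
  · rw [← map_mul, ← map_mul]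
    refine act_eq _ _ (-1) ?_ ?_
    · show w * z * w = sc (-1) * (w * (w * z))
      rw [mul_assoc, h.zw, ← mul_assoc w, ← sc_comm, mul_assoc]
    · show w * z * z = sc (-1) * (z * (w * z))
      rw [← mul_assoc z, h.zw, mul_assoc (sc (-1)), ← mul_assoc (sc (-1)), ← map_mul]
      simp
  · have e : act R * act A = act B * act R := by
      rw [← map_mul, ← map_mul]
      exact congrArg act (Subtype.ext (Prod.ext hwub h.zu))
    rw [e, mul_assoc, hr2, mul_one]
  · intro ht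
    rw [← map_pow, ← map_pow, ← map_mul] at ht
    have e := eq_of_act_eq_one ht
    have e' : u ^ (2 ^ j) * u ^ (2 ^ j) = ub ^ (2 ^ j) * u ^ (2 ^ j) := e
    rw [← pow_add, ← mul_two, ← pow_succ, h.un, ← (Commute.mul_pow (hubu.trans huub.symm)),
      hubu, ← hδ, ← map_pow sc δ] at e'
    have := congrArg Units.val (sc_injective e')
    rw [Units.val_neg] at this
    apply h2
    have h0 : ((δ ^ (2 ^ j) : Fˣ) : F) ≠ 0 := Units.ne_zero _
    exact (mul_eq_zero.mp (show (2 : F) * ((δ ^ (2 ^ j) : Fˣ) : F) = 0 by linear_combination -this)).resolve_right h0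

variable [Fintype F]

theorem exists_data_split (hF : Fintype.card F % 4 = 1) :
    ∃ j, 1 ≤ j ∧ (∃ o, Odd o ∧ Fintype.card F ^ 2 - 1 = 2 ^ (j + 2) * o) ∧
      ∃ (u w z : GL (Fin 2) F) (D : Fˣ), Data j u w z D := by
  classical
  set q := Fintype.card F with hq
  have hq1 : 1 < q := Fintype.one_lt_card
  obtain ⟨b, m, hm, he⟩ := Nat.exists_eq_pow_mul_and_not_dvd (n := q - 1) (by omega) 2 (by norm_num)
  have hb : 2 ≤ b := by
    by_contra h
    have : b = 0 ∨ b = 1 := by omega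
    rcases this with rfl | rfl <;> simp at he <;> omega
  obtain ⟨j, rfl⟩ : ∃ j, b = j + 1 := ⟨b - 1, by omega⟩
  refine ⟨j, by omega, ⟨m * ((q + 1) / 2), (Nat.odd_iff.mpr (by omega)).mul (Nat.odd_iff.mpr (by omega)), ?_⟩, ?_⟩
  · have e : q + 1 = 2 * ((q + 1) / 2) := by omega
    rw [show q ^ 2 - 1 = (q + 1) * (q - 1) by rw [← Nat.sq_sub_sq, one_pow], pow_succ 2 (j + 1)]
    conv_lhs => rw [e, he]
    ring
  obtain ⟨g, hg⟩ := IsCyclic.exists_ofOrder_eq_natCard (α := Fˣ)
  rw [Nat.card_units, Nat.card_eq_fintype_card, ← hq] at hg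
  set ζ := g ^ m with hζdef
  have hm0 : m ≠ 0 := fun h => hm (h ▸ dvd_zero 2)
  have hζ : orderOf ζ = 2 ^ (j + 1) := by
    rw [hζdef, orderOf_pow_of_dvd hm0 (hg ▸ he ▸ dvd_mul_left m _), hg, he,
      Nat.mul_div_cancel _ (Nat.pos_of_ne_zero hm0)]
  have hζh : (ζ : F) ^ (2 ^ j) = -1 := by
    have h1 : ((ζ : F) ^ (2 ^ j)) ^ 2 = 1 := by
      rw [← pow_mul, ← pow_succ, ← Units.val_pow_eq_pow_val, ← hζ, pow_orderOf_eq_one, Units.val_one]
    refine (sq_eq_one_iff.mp h1).resolve_left fun h => ?_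
    have hd := orderOf_dvd_of_pow_eq_one (Units.ext (by rw [Units.val_pow_eq_pow_val, h]; rfl) : ζ ^ (2 ^ j) = 1)
    rw [hζ] at hd
    have := (Nat.pow_dvd_pow_iff_le_right (x := 2) (by norm_num)).mp hd
    omega
  let u : GL (Fin 2) F := mkGL !![1, 0; 0, (ζ : F)] (by simp [Matrix.det_fin_two])
  let z : GL (Fin 2) F := mkGL !![1, 0; 0, -1] (by simp [Matrix.det_fin_two])
  let w : GL (Fin 2) F := mkGL !![0, 1; 1, 0] (by simp [Matrix.det_fin_two])
  have hdu : GeneralLinearGroup.det u = ζ := Units.ext (by simp [u, Matrix.det_fin_two, mkGL_val])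
  refine ⟨u, w, z, 1, ⟨?_, ?_, ?_, ?_, ?_, ?_, ?_⟩⟩
  · apply Units.ext
    simp [u, z, mkGL_val, Matrix.mul_fin_two]
  · have e : u⁻¹ = mkGL !![1, 0; 0, ((ζ⁻¹ : Fˣ) : F)] (by simp [Matrix.det_fin_two]) := by
      refine inv_eq_of_mul_eq_one_right (Units.ext ?_)
      simp [u, mkGL_val, Matrix.mul_fin_two, Matrix.one_fin_two]
    rw [e, hdu]
    apply Units.ext
    simp [u, w, sc_val, mkGL_val, Matrix.mul_fin_two]
  · apply Units.ext
    simp [w, z, sc_val, mkGL_val, Matrix.mul_fin_two]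
  · apply Units.ext
    simp [w, sc_val, mkGL_val, Matrix.mul_fin_two, Matrix.one_fin_two]
  · apply Units.ext
    simp [z, sc_val, mkGL_val, Matrix.mul_fin_two, Matrix.one_fin_two]
  · ext
    simp [w, z, mkGL_val, Matrix.det_fin_two]
  · rw [hdu]
    have e : (-(ζ : Fˣ) ^ (2 ^ j)) = 1 := Units.ext (by rw [Units.val_neg, Units.val_pow_eq_pow_val, hζh, neg_neg, Units.val_one])
    rw [e, map_one]
    apply Units.ext
    rw [Units.val_pow_eq_pow_val, Units.val_one]
    have ed : (u : Matrix (Fin 2) (Fin 2) F) = Matrix.diagonal ![1, (ζ : F)] := by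
      ext a b; fin_cases a <;> fin_cases b <;> simp [u, mkGL_val]
    rw [ed, Matrix.diagonal_pow, ← Matrix.diagonal_one]
    congr 1
    funext a
    fin_cases a
    · simp
    · simp only [Pi.pow_apply, Matrix.cons_val_one, Matrix.cons_val_zero, Fin.mk_one]
      rw [← Units.val_pow_eq_pow_val, ← hζ, pow_orderOf_eq_one, Units.val_one]

theorem exists_data_nonsplit (hF : Fintype.card F % 4 = 3) :
    ∃ j, 1 ≤ j ∧ (∃ o, Odd o ∧ Fintype.card F ^ 2 - 1 = 2 ^ (j + 2) * o) ∧
      ∃ (u w z : GL (Fin 2) F) (D : Fˣ), Data j u w z D := by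
  classical
  set q := Fintype.card F with hq
  obtain ⟨b, m, hm, he⟩ := Nat.exists_eq_pow_mul_and_not_dvd (n := q + 1) (by omega) 2 (by norm_num)
  have hb : 2 ≤ b := by
    by_contra h
    have : b = 0 ∨ b = 1 := by omega
    rcases this with rfl | rfl <;> simp at he <;> omega
  obtain ⟨j, rfl⟩ : ∃ j, b = j + 1 := ⟨b - 1, by omega⟩
  have hfac : q ^ 2 - 1 = 2 ^ (j + 2) * (m * ((q - 1) / 2)) := by
    have e : q - 1 = 2 * ((q - 1) / 2) := by omega
    rw [show q ^ 2 - 1 = (q + 1) * (q - 1) by rw [← Nat.sq_sub_sq, one_pow], pow_succ 2 (j + 1)]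
    conv_lhs => rw [e, he]
    ring
  have hoOdd : Odd (m * ((q - 1) / 2)) := (Nat.odd_iff.mpr (by omega)).mul (Nat.odd_iff.mpr (by omega))
  refine ⟨j, by omega, ⟨_, hoOdd, hfac⟩, ?_⟩
  have hchar : ringChar F ≠ 2 := fun h => by
    have := FiniteField.even_card_of_char_two h
    omega
  obtain ⟨D, hD⟩ := FiniteField.exists_nonsquare hchar
  have hD0 : D ≠ 0 := fun h => hD (h ▸ ⟨0, (mul_zero 0).symm⟩)
  obtain ⟨cp, cq, hc⟩ : ∃ cp cq : F, cp * cp - D * (cq * cq) = D := by
    obtain ⟨a, b, hab⟩ := FiniteField.exists_root_sum_quadratic (R := F)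
      (f := Polynomial.X ^ 2 - Polynomial.C D) (g := -Polynomial.C D * Polynomial.X ^ 2)
      (Polynomial.degree_X_pow_sub_C (by norm_num) D)
      (by rw [← Polynomial.C_neg, Polynomial.degree_C_mul_X_pow 2 (neg_ne_zero.mpr hD0)]; rfl)
      (Nat.odd_iff.mp (Nat.odd_iff.mpr (by omega)))
    refine ⟨a, b, ?_⟩
    simp at hab
    linear_combination hab
  let K := QuadraticAlgebra F D 0
  haveI hfact : Fact (∀ r : F, r ^ 2 ≠ D + 0 * r) := ⟨fun r hr => hD ⟨r, by linear_combination -hr⟩⟩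
  haveI : Module.Finite F K := inferInstance
  haveI : Finite K := Module.finite_of_finite F
  let Z : Matrix (Fin 2) (Fin 2) F := !![0, D; 1, 0]
  let φ : K →ₐ[F] Matrix (Fin 2) (Fin 2) F := QuadraticAlgebra.lift ⟨Z, by
    simp [Z, Matrix.mul_fin_two, Matrix.one_fin_two]⟩
  have hcard : Nat.card Kˣ = q ^ 2 - 1 := by
    rw [Nat.card_units, Module.natCard_eq_pow_finrank (K := F), Nat.card_eq_fintype_card,
      QuadraticAlgebra.finrank_eq_two]
  obtain ⟨g, hg⟩ := IsCyclic.exists_ofOrder_eq_natCard (α := Kˣ)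
  rw [hcard, hfac] at hg
  set ε := g ^ (m * ((q - 1) / 2)) with hεdef
  have ho0 : m * ((q - 1) / 2) ≠ 0 := Nat.pos_iff_ne_zero.mp hoOdd.pos
  have hε : orderOf ε = 2 ^ (j + 2) := by
    rw [hεdef, orderOf_pow_of_dvd ho0 (hg ▸ dvd_mul_left _ _), hg, Nat.mul_div_cancel _ (Nat.pos_of_ne_zero ho0)]
  have hεn : ((ε : K)) ^ (2 ^ (j + 1)) = -1 := by
    have h1 : ((ε : K) ^ (2 ^ (j + 1))) ^ 2 = 1 := by
      rw [← pow_mul, ← pow_succ, ← Units.val_pow_eq_pow_val, ← hε, pow_orderOf_eq_one, Units.val_one]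
    refine (sq_eq_one_iff.mp h1).resolve_left fun h => ?_
    have hd := orderOf_dvd_of_pow_eq_one
      (Units.ext (by rw [Units.val_pow_eq_pow_val, h]; rfl) : ε ^ (2 ^ (j + 1)) = 1)
    rw [hε] at hd
    have := (Nat.pow_dvd_pow_iff_le_right (x := 2) (by norm_num)).mp hd
    omega
  let u : GL (Fin 2) F := Units.map φ.toRingHom.toMonoidHom ε
  have hu : (u : Matrix (Fin 2) (Fin 2) F) = φ (ε : K) := rfl
  have hdet : GeneralLinearGroup.det u ^ (2 ^ j) = 1 := by
    have h1 : GeneralLinearGroup.det u ^ (2 ^ (j + 2)) = 1 := by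
      rw [← map_pow, show u ^ (2 ^ (j + 2)) = 1 from by
        rw [← map_pow, ← hε, pow_orderOf_eq_one, map_one], map_one]
    obtain ⟨k, hk, hk'⟩ := (Nat.dvd_prime_pow Nat.prime_two).mp (orderOf_dvd_of_pow_eq_one h1)
    have h2 : 2 ^ k ∣ q - 1 := by
      rw [← hk', hq, ← Nat.card_eq_fintype_card, ← Nat.card_units]
      exact orderOf_dvd_natCard _
    have hk1 : k ≤ 1 := by
      by_contra h
      have := (pow_dvd_pow 2 (show 2 ≤ k by omega)).trans h2
      omega
    exact orderOf_dvd_iff_pow_eq_one.mp (hk' ▸ pow_dvd_pow 2 (by omega))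
  let z : GL (Fin 2) F := mkGL Z (by simp [Z, Matrix.det_fin_two, hD0])
  obtain ⟨p, r, hform⟩ : ∃ p r : F, (u : Matrix (Fin 2) (Fin 2) F) = !![p, D * r; r, p] := by
    refine ⟨(ε : K).re, (ε : K).im, ?_⟩
    rw [hu]
    show (ε : K).re • (1 : Matrix (Fin 2) (Fin 2) F) + (ε : K).im • Z = _
    ext a b
    fin_cases a <;> fin_cases b <;> simp [Z, mul_comm]
  have hzu : z * u = u * z := by
    apply Units.ext
    rw [Units.val_mul, Units.val_mul, hform, show (z : Matrix (Fin 2) (Fin 2) F) = Z from rfl]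
    ext a b
    fin_cases a <;> fin_cases b <;> simp [Z, Matrix.mul_apply, Fin.sum_univ_two] <;> ring
  let w : GL (Fin 2) F := mkGL !![cp, -(D * cq); cq, -cp]
    (by rw [Matrix.det_fin_two]; simp; intro h; apply hD0; linear_combination -hc - h)
  refine ⟨u, w, z, Units.mk0 D hD0, ⟨hzu, ?_, ?_, ?_, ?_, ?_, ?_⟩⟩
  · have eub : ((sc (GeneralLinearGroup.det u) * u⁻¹ : GL (Fin 2) F) : Matrix (Fin 2) (Fin 2) F) =
        (u : Matrix (Fin 2) (Fin 2) F).adjugate := by
      rw [adjugate_units, Units.val_mul, sc_val, Matrix.smul_mul, Matrix.one_mul]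
      rfl
    apply Units.ext
    rw [Units.val_mul, Units.val_mul, eub, hform, Matrix.adjugate_fin_two]
    ext a b
    fin_cases a <;> fin_cases b <;> simp [w, mkGL_val, Matrix.mul_apply, Fin.sum_univ_two] <;> ring
  · apply Units.ext
    ext a b
    fin_cases a <;> fin_cases b <;>
      simp [w, z, Z, sc_val, mkGL_val, Matrix.mul_apply, Fin.sum_univ_two] <;> ring
  · apply Units.ext
    ext a b
    fin_cases a <;> fin_cases b <;>
      simp [w, sc_val, mkGL_val, Matrix.mul_apply, Fin.sum_univ_two] <;>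
      first | ring1 | linear_combination hc
  · apply Units.ext
    ext a b
    fin_cases a <;> fin_cases b <;>
      simp [z, Z, sc_val, mkGL_val, Matrix.mul_apply, Fin.sum_univ_two]
  · ext
    simp [w, z, Z, mkGL_val, Matrix.det_fin_two]
    linear_combination -hc
  · rw [hdet]
    apply Units.ext
    rw [Units.val_pow_eq_pow_val, hu, ← map_pow, hεn, map_neg, map_one, sc_val, Units.val_neg,
      Units.val_one, neg_one_smul]

/-- The model group is a Sylow `2`-subgroup. -/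
theorem exists_equiv (hF : Odd (Fintype.card F)) (P : Sylow 2 (chevG2.group F)) :
    ∃ k, 0 < k ∧ Nonempty (GT (2 * (2 * k)) ≃* (P : Subgroup (chevG2.group F))) := by
  haveI : Fact (Nat.Prime 2) := ⟨Nat.prime_two⟩
  set q := Fintype.card F with hq
  have hodd := Nat.odd_iff.mp hF
  obtain ⟨j, hj, ⟨o, ho, hsq⟩, u, w, z, D, hdata⟩ : ∃ j, 1 ≤ j ∧
      (∃ o, Odd o ∧ q ^ 2 - 1 = 2 ^ (j + 2) * o) ∧ ∃ (u w z : GL (Fin 2) F) (D : Fˣ), Data j u w z D := by
    rcases (by omega : q % 4 = 1 ∨ q % 4 = 3) with h | h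
    · exact exists_data_split h
    · exact exists_data_nonsplit h
  obtain ⟨a, b, i, r, hrel, hne⟩ := exists_rels (CfsgLib.SylowTwoAb.two_ne_zero_of_odd hF) hdata
  haveI : NeZero (2 ^ (j + 1)) := ⟨by positivity⟩
  let ψ : GT (2 ^ (j + 1)) →* chevG2.group F :=
    (CfsgLib.G2Octonion.chevEquiv (F := F)).symm.toMonoidHom.comp (GT.lift hrel)
  have hψ : Function.Injective ψ :=
    (CfsgLib.G2Octonion.chevEquiv (F := F)).symm.injective.comp (lift_injective hj hrel hne)
  have hcardR : Nat.card ψ.range = 2 ^ (2 * (j + 2)) := by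
    rw [← Nat.card_congr (MonoidHom.ofInjective hψ).toEquiv, GT.card_eq]
    ring
  have hR : IsPGroup 2 ψ.range := IsPGroup.of_card hcardR
  have hidx : ¬ 2 ∣ ψ.range.index := by
    intro hd
    have e := ψ.range.index_mul_card
    rw [hcardR, Nat.card_congr (CfsgLib.G2Octonion.chevEquiv (F := F)).toEquiv,
      CfsgLib.G2Octonion.card_G2, ← hq,
      show q ^ 6 - 1 = (q ^ 2 - 1) * (q ^ 4 + q ^ 2 + 1) by
        zify [Nat.one_le_pow 6 q Fintype.card_pos, Nat.one_le_pow 2 q Fintype.card_pos]; ring, hsq] at e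
    have e' : ψ.range.index * 2 ^ (2 * (j + 2)) =
        (q ^ 6 * o * o * (q ^ 4 + q ^ 2 + 1)) * 2 ^ (2 * (j + 2)) := by
      rw [e, two_mul (j + 2), pow_add]; ring
    rw [Nat.eq_of_mul_eq_mul_right (by positivity) e'] at hd
    have hev : Odd (q ^ 4 + q ^ 2 + 1) := by
      have h := (hF.pow (n := 4)).add_odd (hF.pow (n := 2))
      exact h.add_one
    exact ((((hF.pow).mul ho).mul ho).mul hev).not_two_dvd_nat hd
  let Q : Sylow 2 (chevG2.group F) := hR.toSylow hidx
  refine ⟨2 ^ (j - 1), by positivity, ?_⟩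
  rw [show 2 * (2 * 2 ^ (j - 1)) = 2 ^ (j + 1) by
    rw [← pow_succ', ← pow_succ']; congr 1; omega]
  exact ⟨(MonoidHom.ofInjective hψ).trans (Sylow.equiv Q P)⟩

end CfsgLib.G2SylowFusion
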